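import Mathlib
import Groth.Prelude.Def_CohB1

/-!
Homogeneous ideals of a polynomial ring over a field: minimal primes, hyperplane sections.
-/

set_option autoImplicit false
set_option linter.style.haveILetI false

universe u

open MvPolynomial

namespace Groth.Agent.HomogIdeal

variable {k : Type u} [Field k] {n : ℕ}

/-- The irrelevant maximal ideal. -/
noncomputable def mIdeal (k : Type u) [Field k] (n : ℕ) : Ideal (MvPolynomial (Fin (n + 1)) k) :=
  Ideal.span (Set.range X)

theorem mem_mIdeal_iff {f : MvPolynomial (Fin (n + 1)) k} : f ∈ mIdeal k n ↔ constantCoeff f = 0 := by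
  classical
  rw [mIdeal, ← Set.image_univ, mem_ideal_span_X_image, constantCoeff_eq]
  refine ⟨fun h => ?_, fun h m hm => ?_⟩
  · by_contra h0
    obtain ⟨i, -, hi⟩ := h 0 (mem_support_iff.mpr h0)
    exact hi rfl
  · by_contra hc
    push Not at hc
    have : m = 0 := Finsupp.ext fun i => hc i (Set.mem_univ i)
    subst this
    exact (mem_support_iff.mp hm) h

instance mIdeal_isMaximal : (mIdeal k n).IsMaximal := by
  have h : mIdeal k n = RingHom.ker (constantCoeff (σ := Fin (n + 1)) (R := k)) :=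
    Ideal.ext fun f => mem_mIdeal_iff
  rw [h]
  exact RingHom.ker_isMaximal_of_surjective _ fun a => ⟨C a, constantCoeff_C _ a⟩

theorem mIdeal_isHomogeneous : (mIdeal k n).IsHomogeneous (CohB1.polyGrading n k) :=
  Ideal.homogeneous_span _ _ (by
    rintro _ ⟨i, rfl⟩
    exact ⟨1, (mem_homogeneousSubmodule 1 _).mpr (isHomogeneous_X k i)⟩)

theorem irrelevant_eq :
    (HomogeneousIdeal.irrelevant (CohB1.polyGrading n k)).toIdeal = mIdeal k n := by
  ext f
  rw [HomogeneousIdeal.toIdeal_irrelevant, RingHom.mem_ker, mem_mIdeal_iff,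
    GradedRing.projZeroRingHom_apply]
  rw [← DirectSum.Decomposition.decompose'_eq]
  erw [decomposition.decompose'_apply]
  rw [homogeneousComponent_zero, C_eq_zero, constantCoeff_eq]

theorem component_mem {J : Ideal (MvPolynomial (Fin (n + 1)) k)}
    (hJ : J.IsHomogeneous (CohB1.polyGrading n k)) {f : MvPolynomial (Fin (n + 1)) k} (hf : f ∈ J) (d : ℕ) :
    homogeneousComponent d f ∈ J := by
  have h := hJ d hf
  rw [← DirectSum.Decomposition.decompose'_eq] at h
  erw [decomposition.decompose'_apply] at h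
  exact h

theorem le_mIdeal {J : Ideal (MvPolynomial (Fin (n + 1)) k)}
    (hJ : J.IsHomogeneous (CohB1.polyGrading n k)) (hne : J ≠ ⊤) : J ≤ mIdeal k n := by
  intro f hf
  rw [mem_mIdeal_iff, constantCoeff_eq]
  by_contra h0
  refine hne (Ideal.eq_top_of_isUnit_mem J (component_mem hJ hf 0) ?_)
  rw [homogeneousComponent_zero]
  exact (isUnit_iff_ne_zero.mpr h0).map C

theorem isHomogeneous_of_mem_minimalPrimes {J q : Ideal (MvPolynomial (Fin (n + 1)) k)}
    (hJ : J.IsHomogeneous (CohB1.polyGrading n k)) (hq : q ∈ J.minimalPrimes) :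
    q.IsHomogeneous (CohB1.polyGrading n k) := by
  haveI := hq.1.1
  have h1 : J ≤ (q.homogeneousCore (CohB1.polyGrading n k)).toIdeal :=
    hJ.toIdeal_homogeneousCore_eq_self.symm.trans_le (Ideal.homogeneousCore_mono _ hq.1.2)
  have h2 := hq.2 ⟨hq.1.1.homogeneousCore, h1⟩ (Ideal.toIdeal_homogeneousCore_le _ _)
  have h3 : q = (q.homogeneousCore (CohB1.polyGrading n k)).toIdeal :=
    le_antisymm h2 (Ideal.toIdeal_homogeneousCore_le _ _)
  rw [h3]
  exact HomogeneousIdeal.isHomogeneous _

theorem sup_span_isHomogeneous {J : Ideal (MvPolynomial (Fin (n + 1)) k)}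
    (hJ : J.IsHomogeneous (CohB1.polyGrading n k)) {x : MvPolynomial (Fin (n + 1)) k}
    (hx : x.IsHomogeneous 1) : (J ⊔ Ideal.span {x}).IsHomogeneous (CohB1.polyGrading n k) :=
  hJ.sup (Ideal.homogeneous_span _ _ (by
    rintro _ rfl
    exact ⟨1, (mem_homogeneousSubmodule 1 _).mpr hx⟩))

/-- Krull: a hyperplane section of a positive dimensional projective variety is nonempty. -/
theorem exists_prime_of_lt {p p' : Ideal (MvPolynomial (Fin (n + 1)) k)} [p.IsPrime] [p'.IsPrime]
    (hp : p.IsHomogeneous (CohB1.polyGrading n k)) (h1 : p < p') (h2 : p' < mIdeal k n)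
    {x : MvPolynomial (Fin (n + 1)) k} (hx : x.IsHomogeneous 1) :
    ∃ q : Ideal (MvPolynomial (Fin (n + 1)) k), q.IsPrime ∧ q.IsHomogeneous (CohB1.polyGrading n k) ∧
      p ≤ q ∧ x ∈ q ∧ ¬ mIdeal k n ≤ q := by
  by_contra hcon
  push Not at hcon
  have hxm : x ∈ mIdeal k n := by
    rw [mem_mIdeal_iff, constantCoeff_eq]
    exact hx.coeff_eq_zero (by simp)
  have hle : p ⊔ Ideal.span {x} ≤ mIdeal k n :=
    sup_le (h1.le.trans h2.le) ((Ideal.span_singleton_le_iff_mem _).mpr hxm)
  obtain ⟨q, hq, hqm⟩ := Ideal.exists_minimalPrimes_le hle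
  have hqhom := isHomogeneous_of_mem_minimalPrimes (sup_span_isHomogeneous hp hx) hq
  have hmq : mIdeal k n ≤ q := hcon q hq.1.1 hqhom (le_sup_left.trans hq.1.2)
    (hq.1.2 (Ideal.mem_sup_right (Ideal.mem_span_singleton_self x)))
  obtain rfl : q = mIdeal k n := le_antisymm hqm hmq
  have hh := Ideal.map_height_le_one_of_mem_minimalPrimes hq
  let π := Ideal.Quotient.mk p
  have hπ : Function.Surjective π := Ideal.Quotient.mk_surjective
  have hker : RingHom.ker π = p := Ideal.mk_ker
  haveI : (p'.map π).IsPrime := Ideal.map_isPrime_of_surjective hπ (by rw [hker]; exact h1.le)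
  haveI : ((mIdeal k n).map π).IsPrime :=
    Ideal.map_isPrime_of_surjective hπ (by rw [hker]; exact h1.le.trans h2.le)
  have hs1 : (⊥ : Ideal _) < p'.map π := by
    refine bot_lt_iff_ne_bot.mpr fun h0 => h1.not_ge fun a ha => ?_
    have : π a ∈ p'.map π := Ideal.mem_map_of_mem π ha
    rw [h0, Ideal.mem_bot] at this
    exact Ideal.Quotient.eq_zero_iff_mem.mp this
  have hs2 : p'.map π < (mIdeal k n).map π := by
    refine lt_of_le_of_ne (Ideal.map_mono h2.le) fun h => h2.ne ?_
    have := congrArg (Ideal.comap π) h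
    rwa [Ideal.comap_map_of_surjective' _ hπ, Ideal.comap_map_of_surjective' _ hπ, hker,
      sup_eq_left.mpr h1.le, sup_eq_left.mpr (h1.le.trans h2.le)] at this
  haveI : (⊥ : Ideal (MvPolynomial (Fin (n + 1)) k ⧸ p)).IsPrime := Ideal.isPrime_bot
  have e1 := Ideal.height_strict_mono_of_isPrime_of_isPrime (I := ⊥) hs1
  have e2 := Ideal.height_strict_mono_of_isPrime_of_isPrime hs2
  have e3 : (p'.map π).height + 1 ≤ ((mIdeal k n).map π).height := Order.add_one_le_of_lt e2
  have e4 : 1 ≤ (p'.map π).height := (Order.one_le_iff_pos).mpr (lt_of_le_of_lt zero_le e1)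
  have e5 : (2 : ℕ∞) ≤ 1 := le_trans (le_trans (by norm_num) (add_le_add e4 le_rfl)) (e3.trans hh)
  exact absurd e5 (by norm_num)

/-- The homogeneous linear forms span a space meeting no proper homogeneous prime fully. -/
theorem exists_linear_avoid [Infinite k] (S : Set (Ideal (MvPolynomial (Fin (n + 1)) k))) (hS : S.Finite)
    (h : ∀ q ∈ S, ¬ mIdeal k n ≤ q) :
    ∃ x : MvPolynomial (Fin (n + 1)) k, x.IsHomogeneous 1 ∧ ∀ q ∈ S, x ∉ q := by
  classical
  haveI := hS.to_subtype
  let V : Submodule k (MvPolynomial (Fin (n + 1)) k) := homogeneousSubmodule (Fin (n + 1)) k 1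
  obtain ⟨x, hx⟩ := Submodule.exists_forall_notMem_of_forall_ne_top
    (fun q : S => ((q : Ideal (MvPolynomial (Fin (n + 1)) k)).restrictScalars k).comap V.subtype)
    fun q htop => by
      refine h q q.2 (Ideal.span_le.mpr ?_)
      rintro _ ⟨i, rfl⟩
      have hmem : (⟨X i, (mem_homogeneousSubmodule 1 _).mpr (isHomogeneous_X k i)⟩ : V) ∈
          ((q : Ideal (MvPolynomial (Fin (n + 1)) k)).restrictScalars k).comap V.subtype :=
        htop ▸ Submodule.mem_top
      exact hmem
  exact ⟨x, (mem_homogeneousSubmodule 1 _).mp x.2, fun q hq hxq => hx ⟨q, hq⟩ hxq⟩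

theorem exists_linear_forms [Infinite k] (d : ℕ) :
    ∀ J : Ideal (MvPolynomial (Fin (n + 1)) k), J.IsHomogeneous (CohB1.polyGrading n k) →
      (∀ l : LTSeries (PrimeSpectrum (MvPolynomial (Fin (n + 1)) k)), J ≤ l.head.asIdeal → l.length ≤ d) →
      ∃ h : Fin d → MvPolynomial (Fin (n + 1)) k, (∀ i, (h i).IsHomogeneous 1) ∧
        mIdeal k n ≤ (J ⊔ Ideal.span (Set.range h)).radical := by
  induction d with
  | zero =>
    intro J hJ hl
    refine ⟨Fin.elim0, fun i => i.elim0, ?_⟩
    rw [Set.range_eq_empty, Ideal.span_empty, sup_bot_eq, ← Ideal.sInf_minimalPrimes]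
    refine le_sInf fun q hq => ?_
    haveI := hq.1.1
    by_contra hmq
    have hlt : q < mIdeal k n := lt_of_le_of_ne
      (le_mIdeal (isHomogeneous_of_mem_minimalPrimes hJ hq) hq.1.1.ne_top) fun h => hmq h.ge
    have h01 : (⟨q, hq.1.1⟩ : PrimeSpectrum _) < ⟨mIdeal k n, inferInstance⟩ := hlt
    have := hl ((RelSeries.singleton {(a, b) : PrimeSpectrum (MvPolynomial (Fin (n + 1)) k) × _ | a < b}
      ⟨mIdeal k n, inferInstance⟩).cons ⟨q, hq.1.1⟩ h01) hq.1.2
    exact Nat.succ_ne_zero _ (Nat.le_zero.mp this)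
  | succ d ih =>
    intro J hJ hl
    obtain ⟨x, hx, hxq⟩ := exists_linear_avoid (k := k) (n := n)
      {q ∈ J.minimalPrimes | ¬ mIdeal k n ≤ q}
      (J.finite_minimalPrimes_of_isNoetherianRing.subset fun q hq => hq.1) fun q hq => hq.2
    obtain ⟨h, hh, hrad⟩ := ih (J ⊔ Ideal.span {x}) (sup_span_isHomogeneous hJ hx) fun l hle => by
      haveI := l.head.2
      obtain ⟨q, hq, hql⟩ := Ideal.exists_minimalPrimes_le (le_sup_left.trans hle)
      by_cases hmq : mIdeal k n ≤ q
      · by_contra hlen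
        push Not at hlen
        haveI : NeZero l.length := ⟨by omega⟩
        have h0 : l.head.asIdeal = mIdeal k n :=
          ((mIdeal_isMaximal (k := k) (n := n)).eq_of_le l.head.2.ne_top (hmq.trans hql)).symm
        have hstep := l.step ⟨0, Nat.pos_of_ne_zero (NeZero.ne _)⟩
        have h1 : l.head.asIdeal < (l.toFun (Fin.succ ⟨0, Nat.pos_of_ne_zero (NeZero.ne _)⟩)).asIdeal := hstep
        rw [h0] at h1
        exact (l.toFun _).2.ne_top ((mIdeal_isMaximal (k := k) (n := n)).out.2 _ h1)
      · have hlt : q < l.head.asIdeal := lt_of_le_of_ne hql fun h =>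
          hxq q ⟨hq, hmq⟩ (h ▸ hle (Ideal.mem_sup_right (Ideal.mem_span_singleton_self x)))
        have h01 : (⟨q, hq.1.1⟩ : PrimeSpectrum _) < l.head := hlt
        have := hl (l.cons ⟨q, hq.1.1⟩ h01) (by simpa using hq.1.2)
        simp at this
        omega
    refine ⟨Fin.cons x h, fun i => ?_, ?_⟩
    · refine Fin.cases ?_ ?_ i
      · simpa using hx
      · simpa using hh
    · rwa [Fin.range_cons, Ideal.span_insert, ← sup_assoc]

/-- An ideal containing all variables but the first has at most one relevant homogeneous prime. -/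
theorem eq_of_vars_le {q : Ideal (MvPolynomial (Fin (n + 1)) k)} [q.IsPrime]
    (hq : q.IsHomogeneous (CohB1.polyGrading n k)) (hrel : ¬ mIdeal k n ≤ q)
    (hle : ∀ j : Fin (n + 1), j ≠ 0 → X j ∈ q) :
    q = Ideal.span ((X : Fin (n + 1) → MvPolynomial (Fin (n + 1)) k) '' {j | j ≠ 0}) := by
  classical
  set I₀ := Ideal.span ((X : Fin (n + 1) → MvPolynomial (Fin (n + 1)) k) '' {j | j ≠ 0}) with hI₀
  have h0 : I₀ ≤ q := Ideal.span_le.mpr (by rintro _ ⟨j, hj, rfl⟩; exact hle j hj)
  refine le_antisymm (fun f hf => ?_) h0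
  rw [← sum_homogeneousComponent f]
  refine Ideal.sum_mem _ fun d _ => ?_
  have hg := component_mem hq hf d
  set g := homogeneousComponent d f with hgdef
  have hgh : g.IsHomogeneous d := homogeneousComponent_isHomogeneous d f
  have hrest : g - monomial (Finsupp.single 0 d) (coeff (Finsupp.single 0 d) g) ∈ I₀ := by
    rw [hI₀, mem_ideal_span_X_image]
    intro m hm
    rw [mem_support_iff, coeff_sub, coeff_monomial] at hm
    by_contra hall
    push Not at hall
    have hm0 : m = Finsupp.single 0 (m 0) := by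
      ext j
      by_cases hj : j = 0
      · subst hj; simp
      · rw [hall j hj, Finsupp.single_eq_of_ne hj]
    by_cases hd : Finsupp.single 0 d = m
    · rw [if_pos hd, hd, sub_self] at hm
      exact hm rfl
    · rw [if_neg hd, sub_zero] at hm
      refine hd ?_
      have hdeg := hgh hm
      rw [hm0, Finsupp.weight_single, Pi.one_apply, smul_eq_mul, mul_one] at hdeg
      rw [hm0, hdeg]
  by_cases hc : coeff (Finsupp.single 0 d) g = 0
  · rw [hc, monomial_zero, sub_zero] at hrest
    exact hrest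
  · exfalso
    have hmem : monomial (Finsupp.single 0 d) (coeff (Finsupp.single 0 d) g) ∈ q := by
      have := q.sub_mem hg (h0 hrest)
      rwa [sub_sub_cancel] at this
    have hX : (X 0 : MvPolynomial (Fin (n + 1)) k) ^ d ∈ q := by
      have := q.mul_mem_left (C (coeff (Finsupp.single 0 d) g)⁻¹) hmem
      rwa [C_mul_monomial, inv_mul_cancel₀ hc, ← X_pow_eq_monomial] at this
    refine hrel (Ideal.span_le.mpr ?_)
    rintro _ ⟨j, rfl⟩
    by_cases hj : j = 0
    · subst hj; exact Ideal.IsPrime.mem_of_pow_mem inferInstance d hX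
    · exact hle j hj

end Groth.Agent.HomogIdeal
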